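import Groth.Agent.AssTensLib.Main

/-! # Associated points of a flat module in terms of the base -/

set_option autoImplicit false
set_option backward.isDefEq.respectTransparency false
universe u
open CategoryTheory CategoryTheory.Limits AlgebraicGeometry IsLocalRing TensorProduct

namespace AssTensLib

variable {Y S : Scheme.{u}} (g : Y ⟶ S)

theorem mem_ass_flat_iff [IsLocallyNoetherian S] (G : Y.Modules) (hflat : FlatMod.IsFlatOver g G) (y : Y) :
    y ∈ AssSch.Ass G ↔ g y ∈ AssSch.Ass (Coh.structureModule S) ∧ AssFlatLib.FibAss g G y := by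
  rw [ass_structure_iff]
  letI : Algebra (S.presheaf.stalk (g y)) (Y.presheaf.stalk y) := (g.stalkMap y).hom.toAlgebra
  letI : Module (S.presheaf.stalk (g y)) (G.presheaf.stalk y) := FlatMod.moduleStalkOver g G y
  haveI : IsScalarTower (S.presheaf.stalk (g y)) (Y.presheaf.stalk y) (G.presheaf.stalk y) :=
      IsScalarTower.of_algebraMap_smul fun _ _ => rfl
  haveI : IsLocalHom (algebraMap (S.presheaf.stalk (g y)) (Y.presheaf.stalk y)) :=
    inferInstanceAs (IsLocalHom (g.stalkMap y).hom)
  haveI : Module.Flat (S.presheaf.stalk (g y)) (G.presheaf.stalk y) := hflat y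
  exact (Set.ext_iff.1 (LinearEquiv.AssociatedPrimes.eq
    (AlgebraTensorModule.rid (S.presheaf.stalk (g y)) (Y.presheaf.stalk y) (G.presheaf.stalk y)).symm) _).trans
      (ass_tensor_iff (G.presheaf.stalk y) (S.presheaf.stalk (g y)))

theorem mem_ass_flat_fiberι_iff [IsLocallyNoetherian S] [IsLocallyNoetherian Y] (G : Y.Modules)
    (hflat : FlatMod.IsFlatOver g G) (s : S) (v : g.fiber s) :
    g.fiberι s v ∈ AssSch.Ass G ↔
      s ∈ AssSch.Ass (Coh.structureModule S) ∧ v ∈ AssSch.Ass ((Scheme.Modules.pullback (g.fiberι s)).obj G) := by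
  rw [mem_ass_flat_iff g G hflat, mem_ass_fiber_iff g G s v, AssFlatLib.f_fiberι g v]

end AssTensLib
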