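import Groth.Agent.AssFlatLib.Basic
import Groth.Agent.S2069
import Groth.Agent.KFlatLib.PerfectPull
import Groth.Agent.CurvLib.EulerTensor

/-! # Associated points and flat modules, no finiteness -/

set_option autoImplicit false
set_option backward.isDefEq.respectTransparency false
universe u
open CategoryTheory AlgebraicGeometry IsLocalRing TensorProduct

namespace AssTensLib

open AssFlatLib

section Alg

variable {R : Type u} [CommRing R] [IsLocalRing R] {B : Type u} [CommRing B] [IsLocalRing B] [Algebra R B]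
  (N : Type u) [AddCommGroup N] [Module B N] [Module R N] [IsScalarTower R B N]

/-- `N ⊗ R/I = N/IN`. -/
noncomputable def quotEquiv (I : Ideal R) :
    N ⊗[R] (R ⧸ I) ≃ₗ[B] N ⧸ (I.map (algebraMap R B) • (⊤ : Submodule B N)) :=
  ((AlgebraTensorModule.cancelBaseChange R B B N (R ⧸ I)).symm.trans
    (AlgebraTensorModule.congr (LinearEquiv.refl B N)
      (Algebra.TensorProduct.quotIdealMapEquivTensorQuot B I).symm.toLinearEquiv)).trans
    (tensorQuotEquivQuotSMul N _)

theorem ass_tensor_iff [IsNoetherianRing R] [IsLocalHom (algebraMap R B)] [Module.Flat R N]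
    (M : Type u) [AddCommGroup M] [Module R M] :
    IsAssociatedPrime (maximalIdeal B) (N ⊗[R] M) ↔
      IsAssociatedPrime (maximalIdeal R) M ∧
        IsAssociatedPrime (maximalIdeal B) (DepthTensModLib.Fib R (B := B) N) := by
  refine (Set.ext_iff.1 (Groth.Agent.S2069.result (R := R) (S := B) (M := M) (N := N)) _).trans ?_
  simp only [Set.mem_iUnion, exists_prop]
  refine ⟨fun ⟨p, hp, hP⟩ => ?_, fun h => ⟨_, h.1, h.2⟩⟩
  haveI := hp.isPrime
  obtain rfl : p = maximalIdeal R := by
    refine le_antisymm (IsLocalRing.le_maximalIdeal hp.isPrime.ne_top) fun r hr => ?_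
    by_contra hrp
    obtain ⟨-, z, hz⟩ := hP
    have hrB : algebraMap R B r ∈ maximalIdeal B := map_nonunit (algebraMap R B) r hr
    rw [hz] at hrB
    obtain ⟨n, hn⟩ := hrB
    rw [Submodule.mem_colon_singleton, Submodule.mem_bot] at hn
    have hreg : Function.Injective (LinearMap.lsmul R (R ⧸ p) (r ^ n)) := fun a b hab => by
      obtain ⟨a, rfl⟩ := Ideal.Quotient.mk_surjective a
      obtain ⟨b, rfl⟩ := Ideal.Quotient.mk_surjective b
      rw [LinearMap.lsmul_apply, LinearMap.lsmul_apply, Algebra.smul_def, Algebra.smul_def,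
        Ideal.Quotient.algebraMap_eq, ← map_mul, ← map_mul, Ideal.Quotient.eq, ← mul_sub] at hab
      exact Ideal.Quotient.eq.2 ((‹p.IsPrime›.mem_or_mem hab).resolve_left fun h => hrp (‹p.IsPrime›.mem_of_pow_mem n h))
    have hreg' : Function.Injective (LinearMap.lTensor N (LinearMap.lsmul R (R ⧸ p) (r ^ n))) :=
      Module.Flat.lTensor_preserves_injective_linearMap _ hreg
    let e := quotEquiv (B := B) N p
    have hsm : ∀ t : N ⊗[R] (R ⧸ p),
        LinearMap.lTensor N (LinearMap.lsmul R (R ⧸ p) (r ^ n)) t = (algebraMap R B r) ^ n • t := fun t => by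
      rw [← map_pow, algebraMap_smul]
      induction t using TensorProduct.induction_on with
      | zero => rw [map_zero, smul_zero]
      | tmul a b => rw [LinearMap.lTensor_tmul, LinearMap.lsmul_apply, tmul_smul]
      | add a b ha hb => rw [map_add, smul_add, ha, hb]
    have h0 : e.symm z = 0 := hreg' (by rw [map_zero, hsm, ← map_smul, hn, map_zero])
    have hz0 : z = 0 := e.symm.injective (h0.trans (map_zero _).symm)
    refine (maximalIdeal.isMaximal B).ne_top ((Ideal.eq_top_iff_one _).2 (hz ▸ ?_))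
    exact Ideal.le_radical (by rw [Submodule.mem_colon_singleton, Submodule.mem_bot, hz0, smul_zero])
  exact ⟨hp, hP⟩

end Alg

section Sch

variable {P X Y : Scheme.{u}} (f : P ⟶ X)

/-- the local ring of the fibre has depth zero -/
def RingAss (z : P) : Prop :=
  letI := (f.stalkMap z).hom.toAlgebra
  IsAssociatedPrime (maximalIdeal (P.presheaf.stalk z))
    (DepthTensModLib.Fib (X.presheaf.stalk (f z)) (B := P.presheaf.stalk z) (P.presheaf.stalk z))

theorem mem_ass_tensor_iff (E : X.Modules) (F : P.Modules) (hflat : FlatMod.IsFlatOver f F) (z : P)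
    [IsNoetherianRing (X.presheaf.stalk (f z))] :
    z ∈ AssSch.Ass (CohB1.tensorMod ((Scheme.Modules.pullback f).obj E) F) ↔
      f z ∈ AssSch.Ass E ∧ FibAss f F z := by
  letI : Algebra (X.presheaf.stalk (f z)) (P.presheaf.stalk z) := (f.stalkMap z).hom.toAlgebra
  letI : Module (X.presheaf.stalk (f z)) (F.presheaf.stalk z) := FlatMod.moduleStalkOver f F z
  haveI : IsScalarTower (X.presheaf.stalk (f z)) (P.presheaf.stalk z) (F.presheaf.stalk z) :=
      IsScalarTower.of_algebraMap_smul fun _ _ => rfl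
  haveI : IsLocalHom (algebraMap (X.presheaf.stalk (f z)) (P.presheaf.stalk z)) :=
    inferInstanceAs (IsLocalHom (f.stalkMap z).hom)
  haveI : Module.Flat (X.presheaf.stalk (f z)) (F.presheaf.stalk z) := hflat z
  obtain ⟨e⟩ := nonempty_stalk_tensor f E F z
  exact (Set.ext_iff.1 (LinearEquiv.AssociatedPrimes.eq e) _).trans
    (ass_tensor_iff (F.presheaf.stalk z) (E.presheaf.stalk (f z)))

theorem mem_ass_pullback_iff [Flat f] (E : X.Modules) (z : P) [IsNoetherianRing (X.presheaf.stalk (f z))] :
    z ∈ AssSch.Ass ((Scheme.Modules.pullback f).obj E) ↔ f z ∈ AssSch.Ass E ∧ RingAss f z := by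
  letI : Algebra (X.presheaf.stalk (f z)) (P.presheaf.stalk z) := (f.stalkMap z).hom.toAlgebra
  haveI : IsLocalHom (algebraMap (X.presheaf.stalk (f z)) (P.presheaf.stalk z)) :=
    inferInstanceAs (IsLocalHom (f.stalkMap z).hom)
  haveI : Module.Flat (X.presheaf.stalk (f z)) (P.presheaf.stalk z) := Flat.stalkMap f z
  let e : ((Scheme.Modules.pullback f).obj E).presheaf.stalk z ≃ₗ[P.presheaf.stalk z]
      P.presheaf.stalk z ⊗[X.presheaf.stalk (f z)] E.presheaf.stalk (f z) :=
    ((KFlatLib.stalkPullIso f z).app E).toLinearEquiv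
  exact (Set.ext_iff.1 (LinearEquiv.AssociatedPrimes.eq e) _).trans
    (ass_tensor_iff (P.presheaf.stalk z) (E.presheaf.stalk (f z)))

theorem ringAss_congr {f g : P ⟶ X} (h : f = g) (z : P) : RingAss f z ↔ RingAss g z := by rw [h]

/-- only the image of the maximal ideal matters -/
theorem ringAss_comp_iff {W : Scheme.{u}} (π : W ⟶ P) (w : W)
    (h : Function.Surjective (f.stalkMap (π w)).hom) : RingAss π w ↔ RingAss (π ≫ f) w := by
  have hmax : (maximalIdeal (X.presheaf.stalk (f (π w)))).map (f.stalkMap (π w)).hom =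
      maximalIdeal (P.presheaf.stalk (π w)) := by
    haveI : IsLocalHom (f.stalkMap (π w)).hom := inferInstance
    rw [← IsLocalRing.maximalIdeal_comap (f.stalkMap (π w)).hom, Ideal.map_comap_of_surjective _ h]
  have hI : (maximalIdeal (P.presheaf.stalk (π w))).map (π.stalkMap w).hom =
      (maximalIdeal (X.presheaf.stalk ((π ≫ f) w))).map ((π ≫ f).stalkMap w).hom := by
    rw [← hmax, Ideal.map_map, Scheme.Hom.stalkMap_comp]
    rfl
  exact Set.ext_iff.1 (LinearEquiv.AssociatedPrimes.eq
    (Submodule.quotEquivOfEq _ _ (congrArg (· • (⊤ : Submodule (W.presheaf.stalk w) (W.presheaf.stalk w))) hI))) _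

theorem mem_ass_fiber_iff (F : P.Modules) (s : X) (u : f.fiber s)
    [IsNoetherianRing (P.presheaf.stalk (f.fiberι s u))] :
    u ∈ AssSch.Ass ((Scheme.Modules.pullback (f.fiberι s)).obj F) ↔ FibAss f F (f.fiberι s u) := by
  let i := f.fiberι s
  letI : Algebra (P.presheaf.stalk (i u)) ((f.fiber s).presheaf.stalk u) := (i.stalkMap u).hom.toAlgebra
  have hs : Function.Surjective (algebraMap (P.presheaf.stalk (i u)) ((f.fiber s).presheaf.stalk u)) :=
    (Groth.Agent.S9501.result f s u).1
  let T := (f.fiber s).presheaf.stalk u ⊗[P.presheaf.stalk (i u)] F.presheaf.stalk (i u)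
  let e : ((Scheme.Modules.pullback i).obj F).presheaf.stalk u ≃ₗ[(f.fiber s).presheaf.stalk u] T :=
    ((KFlatLib.stalkPullIso i u).app F).toLinearEquiv
  haveI : IsNoetherianRing ((f.fiber s).presheaf.stalk u) := isNoetherianRing_of_surjective _ _ _ hs
  refine (Set.ext_iff.1 (LinearEquiv.AssociatedPrimes.eq e) _).trans
    ((DvrLenLib.isAssociatedPrime_maximal_of_surjective hs T).trans ?_)
  refine Set.ext_iff.1 (LinearEquiv.AssociatedPrimes.eq ((DvrLenLib.tensorEquivQuot hs (F.presheaf.stalk (i u))).trans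
    (Submodule.quotEquivOfEq _ _ ?_))) _
  exact congrArg (· • _) (Groth.Agent.S9501.result f s u).2

theorem ass_structure_iff (z : P) :
    z ∈ AssSch.Ass (Coh.structureModule P) ↔ IsAssociatedPrime (maximalIdeal (P.presheaf.stalk z)) (P.presheaf.stalk z) :=
  Set.ext_iff.1 (LinearEquiv.AssociatedPrimes.eq (CurvLib.stalkStructureEquiv z)) _

theorem mem_ass_fiber_structure_iff (s : X) (u : f.fiber s) [IsNoetherianRing (P.presheaf.stalk (f.fiberι s u))] :
    u ∈ AssSch.Ass (Coh.structureModule (f.fiber s)) ↔ RingAss f (f.fiberι s u) := by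
  rw [ass_structure_iff]
  let i := f.fiberι s
  letI : Algebra (P.presheaf.stalk (i u)) ((f.fiber s).presheaf.stalk u) := (i.stalkMap u).hom.toAlgebra
  have hs : Function.Surjective (algebraMap (P.presheaf.stalk (i u)) ((f.fiber s).presheaf.stalk u)) :=
    (Groth.Agent.S9501.result f s u).1
  haveI : IsNoetherianRing ((f.fiber s).presheaf.stalk u) := isNoetherianRing_of_surjective _ _ _ hs
  refine (DvrLenLib.isAssociatedPrime_maximal_of_surjective hs _).trans ?_
  refine Set.ext_iff.1 (LinearEquiv.AssociatedPrimes.eq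
    ((LinearMap.quotKerEquivOfSurjective (Algebra.linearMap (P.presheaf.stalk (i u)) ((f.fiber s).presheaf.stalk u)) hs).symm.trans
      (Submodule.quotEquivOfEq _ _ ?_))) _
  exact (Groth.Agent.S9501.result f s u).2.trans (by rw [Ideal.smul_top_eq_map, Algebra.algebraMap_self, Ideal.map_id]; rfl)

theorem ass_structure_iso {T T' : Scheme.{u}} (e : T ≅ T') (t : T) :
    t ∈ AssSch.Ass (Coh.structureModule T) ↔ e.hom t ∈ AssSch.Ass (Coh.structureModule T') := by
  rw [ass_structure_iff, ass_structure_iff]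
  let φ : T'.presheaf.stalk (e.hom t) ≃+* T.presheaf.stalk t := (asIso (e.hom.stalkMap t)).commRingCatIsoToRingEquiv
  have key : ∀ {A B : Type u} [CommRing A] [CommRing B] [IsLocalRing A] [IsLocalRing B] (ψ : A ≃+* B),
      IsAssociatedPrime (maximalIdeal A) A → IsAssociatedPrime (maximalIdeal B) B := by
    intro A B _ _ _ _ ψ ⟨_, a, ha⟩
    refine ⟨inferInstance, ψ a, ?_⟩
    ext b
    obtain ⟨c, rfl⟩ := ψ.surjective b
    have hc : c ∈ maximalIdeal A ↔ ψ c ∈ maximalIdeal B := by
      simp [mem_maximalIdeal, mem_nonunits_iff]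
    rw [← hc, ha]
    simp only [Ideal.mem_radical_iff, Submodule.mem_colon_singleton, Submodule.mem_bot, smul_eq_mul, ← map_pow, ← map_mul,
      map_eq_zero_iff ψ ψ.injective]
  exact ⟨key φ.symm, key φ⟩

end Sch

end AssTensLib
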