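import Mathlib
import Groth.Agent.WeakAssLib.Basic

-- import your own Groth.Agent.* helpers here

set_option autoImplicit false
open TensorProduct
universe u

namespace AssTensLib

/-- Weakly associated primes of a tensor product of two fields are minimal. -/
theorem minimalPrimes_of_weakAss {k K L : Type u} [Field k] [Field K] [Field L]
    [Algebra k K] [Algebra k L] : ∀ (p : Ideal (K ⊗[k] L)), p.IsPrime → ∀ y : K ⊗[k] L,
      p ∈ ((⊥ : Submodule (K ⊗[k] L) (K ⊗[k] L)).colon {y}).minimalPrimes → p ∈ minimalPrimes (K ⊗[k] L) := by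
  classical
  obtain ⟨ι, x, hx⟩ := exists_isTranscendenceBasis' (R := k) (A := L)
  let k' : IntermediateField k L := IntermediateField.adjoin k (Set.range x)
  haveI halg : Algebra.IsAlgebraic k' L := hx.isAlgebraic_field
  let P := MvPolynomial ι k
  let f : P →ₐ[k] k' := (MvPolynomial.aeval x).codRestrict k'.toSubalgebra (fun p => by
    have h1 : MvPolynomial.aeval x p ∈ Algebra.adjoin k (Set.range x) := by
      rw [Algebra.adjoin_range_eq_range_aeval]; exact ⟨p, rfl⟩
    exact IntermediateField.algebra_adjoin_le_adjoin k _ h1)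
  have hfinj : Function.Injective f := fun a b h => hx.1 (congrArg Subtype.val h)
  let F : K ⊗[k] P →ₐ[k] K ⊗[k] k' := Algebra.TensorProduct.map (AlgHom.id k K) f
  have hFinj : Function.Injective F :=
    Module.Flat.lTensor_preserves_injective_linearMap (M := K) f.toLinearMap hfinj
  haveI : IsDomain (K ⊗[k] P) :=
    MulEquiv.isDomain (MvPolynomial ι K) (MvPolynomial.algebraTensorAlgEquiv k K).toMulEquiv
  have hclear : ∀ d : K ⊗[k] k', ∃ s : P, s ≠ 0 ∧ (1 ⊗ₜ[k] f s) * d ∈ F.range := by
    intro d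
    induction d using TensorProduct.induction_on with
    | zero => exact ⟨1, one_ne_zero, by rw [mul_zero]; exact zero_mem _⟩
    | tmul a c =>
      obtain ⟨r, s, hrs⟩ := (IntermediateField.mem_adjoin_range_iff k x (c : L)).1 c.2
      by_cases hs : s = 0
      · subst hs
        rw [map_zero, div_zero] at hrs
        have : c = 0 := Subtype.ext hrs
        exact ⟨1, one_ne_zero, by rw [this, TensorProduct.tmul_zero, mul_zero]; exact zero_mem _⟩
      · refine ⟨s, hs, a ⊗ₜ r, ?_⟩
        have hcs : f s * c = f r := by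
          apply Subtype.ext
          have hs' : MvPolynomial.aeval x s ≠ 0 := fun h => hs (hx.1 (by rw [h, map_zero]))
          show MvPolynomial.aeval x s * (c : L) = MvPolynomial.aeval x r
          rw [hrs, mul_div_cancel₀ _ hs']
        simp [F, hcs]
    | add d e hd he =>
      obtain ⟨s, hs, hsd⟩ := hd
      obtain ⟨t, ht, hte⟩ := he
      refine ⟨s * t, mul_ne_zero hs ht, ?_⟩
      have h1 : ∀ r : P, (1 ⊗ₜ[k] f r : K ⊗[k] k') ∈ F.range := fun r => ⟨1 ⊗ₜ r, by simp [F]⟩
      have h2 : (1 ⊗ₜ[k] f (s * t) : K ⊗[k] k') * (d + e)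
          = (1 ⊗ₜ[k] f t) * ((1 ⊗ₜ[k] f s) * d) + (1 ⊗ₜ[k] f s) * ((1 ⊗ₜ[k] f t) * e) := by
        rw [map_mul, mul_add, ← mul_assoc, ← mul_assoc, Algebra.TensorProduct.tmul_mul_tmul,
          Algebra.TensorProduct.tmul_mul_tmul, mul_one, mul_comm (f t)]
      rw [h2]
      exact add_mem (mul_mem (h1 t) hsd) (mul_mem (h1 s) hte)
  have hunit : ∀ s : P, s ≠ 0 → IsUnit (1 ⊗ₜ[k] f s : K ⊗[k] k') := fun s hs =>
    IsUnit.map (Algebra.TensorProduct.includeRight : k' →ₐ[k] K ⊗[k] k')
      (isUnit_iff_ne_zero.2 fun h => hs (hfinj (by rw [h, map_zero])))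
  haveI : Nontrivial (K ⊗[k] k') := hFinj.nontrivial
  haveI : NoZeroDivisors (K ⊗[k] k') := ⟨fun {d e} h => by
    obtain ⟨s, hs, d', hd⟩ := hclear d
    obtain ⟨t, ht, e', he⟩ := hclear e
    have h1 : F (d' * e') = 0 := by
      rw [map_mul]
      show F.toRingHom d' * F.toRingHom e' = 0
      rw [hd, he]
      linear_combination ((1 ⊗ₜ[k] f s : K ⊗[k] k') * (1 ⊗ₜ[k] f t)) * h
    rcases mul_eq_zero.1 ((map_eq_zero_iff F hFinj).1 h1) with h2 | h2
    · subst h2; exact Or.inl (((hunit s hs).mul_right_eq_zero (b := d)).1 (hd.symm.trans (map_zero F)))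
    · subst h2; exact Or.inr (((hunit t ht).mul_right_eq_zero (b := e)).1 (he.symm.trans (map_zero F)))⟩
  haveI : IsDomain (K ⊗[k] k') := by exact NoZeroDivisors.to_isDomain (K ⊗[k] k')
  let φ : K ⊗[k] k' →ₐ[k] K ⊗[k] L := Algebra.TensorProduct.map (AlgHom.id k K) k'.val
  let b := Module.Free.chooseBasis k' L
  let ψ : K ⊗[k] L ≃ₗ[k] (Module.Free.ChooseBasisIndex k' L →₀ K ⊗[k] k') :=
    (b.repr.restrictScalars k).lTensor K ≪≫ₗ TensorProduct.finsuppRight k k K k' _
  have hψ : ∀ (d : K ⊗[k] k') (y : K ⊗[k] L) i, ψ (φ d * y) i = d * ψ y i := by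
    intro d y i
    induction d using TensorProduct.induction_on with
    | zero => simp
    | add d e hd he => simp [add_mul, hd, he]
    | tmul a c =>
      induction y using TensorProduct.induction_on with
      | zero => simp
      | add d e hd he => simp [mul_add, hd, he]
      | tmul a' l =>
        have hb : b.repr ((c : L) * l) i = c * b.repr l i := by
          rw [show ((c : L) * l) = c • l from rfl, map_smul, Finsupp.smul_apply, smul_eq_mul]
        simp [φ, ψ, TensorProduct.finsuppRight_apply_tmul_apply, hb]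
  have hnzd : ∀ (d : K ⊗[k] k') (y : K ⊗[k] L), d ≠ 0 → φ d * y = 0 → y = 0 := by
    intro d y hd h
    apply ψ.injective
    ext i
    have := hψ d y i
    rw [h, map_zero, Finsupp.zero_apply, eq_comm, mul_eq_zero] at this
    simpa using this.resolve_left hd
  letI : Algebra (K ⊗[k] k') (K ⊗[k] L) := φ.toRingHom.toAlgebra
  have hint : ∀ y : K ⊗[k] L, IsIntegral (K ⊗[k] k') y := by
    intro y
    induction y using TensorProduct.induction_on with
    | zero => exact isIntegral_zero
    | add d e hd he => exact hd.add he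
    | tmul a l =>
      have hl : IsIntegral k' l := Algebra.IsIntegral.isIntegral l
      have h1 : IsIntegral (K ⊗[k] k') ((1 : K) ⊗ₜ[k] l) := by
        have := hl.map_of_comp_eq (T := K ⊗[k] k') (U := K ⊗[k] L)
          (Algebra.TensorProduct.includeRight : k' →ₐ[k] K ⊗[k] k').toRingHom
          (Algebra.TensorProduct.includeRight : L →ₐ[k] K ⊗[k] L).toRingHom
          (by
            ext c
            show φ ((1 : K) ⊗ₜ[k] c) = (1 : K) ⊗ₜ[k] (c : L)
            simp [φ])
        exact this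
      have h2 : IsIntegral (K ⊗[k] k') (a ⊗ₜ[k] (1 : L)) := by
        have : φ (a ⊗ₜ[k] (1 : k')) = a ⊗ₜ[k] (1 : L) := by simp [φ]
        rw [← this]
        exact isIntegral_algebraMap
      have := h2.mul h1
      rwa [Algebra.TensorProduct.tmul_mul_tmul, mul_one, one_mul] at this
  intro p hprime y hy
  have hy1 : ∀ c : K ⊗[k] L, c * y = 0 → c ∈ p := fun c hc => hy.1.2 (by
    rw [Submodule.mem_colon_singleton, Submodule.mem_bot, smul_eq_mul]; exact hc)
  have hcomap : Ideal.comap φ.toRingHom p = ⊥ := by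
    rw [eq_bot_iff]
    intro d hd
    rw [Ideal.mem_bot]
    by_contra h
    obtain ⟨c, hc, n, hcn⟩ := Groth.Agent.WeakAssLib.exists_mul_pow_mem ((⊥ : Submodule (K ⊗[k] L) (K ⊗[k] L)).colon {y}) p (φ d) (fun Q hQ hI hQp => hy.2 ⟨hQ, hI⟩ hQp hd)
    rw [Submodule.mem_colon_singleton, Submodule.mem_bot, smul_eq_mul] at hcn
    refine hc (hy1 c ?_)
    clear hy hy1
    have h' : φ d ^ n * (c * y) = 0 := by rw [← hcn]; ring
    clear hcn
    induction n with
    | zero => rwa [pow_zero, one_mul] at h'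
    | succ n ih => exact ih (hnzd d _ h (by rwa [pow_succ', mul_assoc] at h'))
  refine ⟨⟨hprime, bot_le⟩, fun q hq hqp => ?_⟩
  haveI := hq.1
  by_contra hpq
  obtain ⟨r, hr, hrq⟩ := Set.not_subset.1 hpq
  have := Ideal.comap_lt_comap_of_integral_mem_sdiff (R := K ⊗[k] k') hqp ⟨hr, hrq⟩ (hint r)
  change _ < Ideal.comap φ.toRingHom p at this
  rw [hcomap] at this
  exact not_lt_bot this

end AssTensLib
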