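import Groth.Agent.AssTensLib.Basic
import Groth.Agent.AssTensLib.FieldTensor
import Groth.Agent.RGFlatLib.EtaleFlat

/-! # Associated points of `F ⊗_S G` -/

set_option autoImplicit false
set_option backward.isDefEq.respectTransparency false
universe u
open CategoryTheory CategoryTheory.Limits AlgebraicGeometry IsLocalRing TensorProduct

namespace AssTensLib

open AssFlatLib

variable {X Y S : Scheme.{u}} (f : X ⟶ S) (g : Y ⟶ S)

/-- `T(x,y) → X ×_S Y` -/
noncomputable abbrev incl (x : X) (y : Y) :
    pullback (X.fromSpecResidueField x ≫ f) (Y.fromSpecResidueField y ≫ g) ⟶ pullback f g :=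
  pullback.map (X.fromSpecResidueField x ≫ f) (Y.fromSpecResidueField y ≫ g) f g (X.fromSpecResidueField x)
    (Y.fromSpecResidueField y) (𝟙 S) (Category.comp_id _) (Category.comp_id _)

theorem mem_ass_iff [IsLocallyNoetherian X] [IsLocallyNoetherian Y] [IsLocallyNoetherian (pullback f g)]
    (F : X.Modules) (G : Y.Modules) (hG : Coh.IsQCoh G) (hGfl : FlatMod.IsFlatOver g G) (z : ↥(pullback f g)) :
    z ∈ AssSch.Ass (CohB1.tensorMod ((Scheme.Modules.pullback (pullback.fst f g)).obj F)
        ((Scheme.Modules.pullback (pullback.snd f g)).obj G)) ↔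
      ∃ x ∈ AssSch.Ass F, ∃ v : g.fiber (f x),
        v ∈ AssSch.Ass ((Scheme.Modules.pullback (g.fiberι (f x))).obj G) ∧
        z ∈ incl f g x (g.fiberι (f x) v) '' AssSch.Ass (Coh.structureModule _) := by
  let p := pullback.fst f g
  let q := pullback.snd f g
  haveI := hG
  have hqG : FlatMod.IsFlatOver p ((Scheme.Modules.pullback q).obj G) :=
    RGFlatLib.isFlatOver_pullback_of_isPullback (IsPullback.of_hasPullback f g).flip G hGfl
  rw [mem_ass_tensor_iff p F _ hqG z]
  have hmain : ∀ (x : X) (w : p.fiber x), ∃ v : g.fiber (f x), g.fiberι (f x) v = q (p.fiberι x w) ∧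
      (FibAss p ((Scheme.Modules.pullback q).obj G) (p.fiberι x w) ↔
        v ∈ AssSch.Ass ((Scheme.Modules.pullback (g.fiberι (f x))).obj G) ∧
        p.fiberι x w ∈ incl f g x (q (p.fiberι x w)) '' AssSch.Ass (Coh.structureModule _)) := by
    intro x w
    let j := p.fiberι x
    let a := X.fromSpecResidueField x
    let r := Spec.map (f.residueFieldMap x)
    haveI : Flat r := by
      rw [HasRingHomProperty.Spec_iff (P := @Flat)]
      letI := (f.residueFieldMap x).hom.toAlgebra
      exact (inferInstance : Module.Flat (S.residueField (f x)) (X.residueField x))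
    have sqQ : IsPullback (j ≫ q) (p.fiberToSpecResidueField x) g (a ≫ f) :=
      (IsPullback.of_hasPullback p a).paste_horiz (IsPullback.of_hasPullback f g).flip
    have sqY : IsPullback (g.fiberι (f x)) (g.fiberToSpecResidueField (f x)) g (S.fromSpecResidueField (f x)) :=
      IsPullback.of_hasPullback g _
    have hr : r ≫ S.fromSpecResidueField (f x) = a ≫ f := Scheme.Hom.SpecMap_residueFieldMap_fromSpecResidueField f x
    let π : p.fiber x ⟶ g.fiber (f x) := sqY.lift (j ≫ q) (p.fiberToSpecResidueField x ≫ r)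
      (by rw [Category.assoc _ r, hr]; exact sqQ.w)
    have hπ : π ≫ g.fiberι (f x) = j ≫ q := sqY.lift_fst _ _ _
    have sqπ : IsPullback π (p.fiberToSpecResidueField x) (g.fiberToSpecResidueField (f x)) r :=
      IsPullback.of_right (by rw [hπ, hr]; exact sqQ) (sqY.lift_snd _ _ _) sqY
    haveI : Flat π := MorphismProperty.of_isPullback sqπ.flip inferInstance
    haveI hNQ : ∀ u : p.fiber x, IsNoetherianRing ((p.fiber x).presheaf.stalk u) := fun u =>
      isNoetherianRing_of_surjective _ _ _ (Groth.Agent.S9501.result p x u).1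
    haveI hNY : ∀ v : g.fiber (f x), IsNoetherianRing ((g.fiber (f x)).presheaf.stalk v) := fun v =>
      isNoetherianRing_of_surjective _ _ _ (Groth.Agent.S9501.result g (f x) v).1
    have hv : g.fiberι (f x) (π w) = q (j w) := congr($(hπ).base w)
    refine ⟨π w, hv, ?_⟩
    rw [← mem_ass_fiber_iff p _ x w]
    let e : (Scheme.Modules.pullback π).obj ((Scheme.Modules.pullback (g.fiberι (f x))).obj G) ≅
        (Scheme.Modules.pullback j).obj ((Scheme.Modules.pullback q).obj G) :=
      (Scheme.Modules.pullbackComp π (g.fiberι (f x))).app G ≪≫ (Scheme.Modules.pullbackCongr hπ).app G ≪≫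
        ((Scheme.Modules.pullbackComp j q).app G).symm
    have he : w ∈ AssSch.Ass ((Scheme.Modules.pullback j).obj ((Scheme.Modules.pullback q).obj G)) ↔
        w ∈ AssSch.Ass ((Scheme.Modules.pullback π).obj ((Scheme.Modules.pullback (g.fiberι (f x))).obj G)) :=
      Set.ext_iff.1 (LinearEquiv.AssociatedPrimes.eq ((DerSch.stalkFunctor _ w).mapIso e.symm).toLinearEquiv) _
    rw [he, mem_ass_pullback_iff π _ w, ringAss_comp_iff (g.fiberι (f x)) π w (Groth.Agent.S9501.result g (f x) (π w)).1,
      ringAss_congr hπ w]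
    refine and_congr Iff.rfl ?_
    let y := q (j w)
    let b := Y.fromSpecResidueField y
    have sqR : IsPullback ((j ≫ q).fiberι y ≫ p.fiberToSpecResidueField x) ((j ≫ q).fiberToSpecResidueField y)
        (a ≫ f) (b ≫ g) :=
      ((IsPullback.of_hasPullback (j ≫ q) b).flip.paste_vert sqQ).flip
    let eT := sqR.isoPullback
    have hcomp : eT.hom ≫ incl f g x y = (j ≫ q).fiberι y ≫ j := by
      refine pullback.hom_ext ?_ ?_
      · have h1 : (incl f g x y) ≫ pullback.fst f g = pullback.fst _ _ ≫ a := pullback.lift_fst _ _ _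
        rw [Category.assoc, h1, sqR.isoPullback_hom_fst_assoc, Category.assoc, Category.assoc,
          show j ≫ p = p.fiberToSpecResidueField x ≫ a from pullback.condition]
      · have h1 : (incl f g x y) ≫ pullback.snd f g = pullback.snd _ _ ≫ b := pullback.lift_snd _ _ _
        rw [Category.assoc, h1, sqR.isoPullback_hom_snd_assoc, Category.assoc]
        exact (pullback.condition (f := j ≫ q) (g := b)).symm
    constructor
    · intro h
      obtain ⟨u, hu⟩ : ∃ u : (j ≫ q).fiber y, (j ≫ q).fiberι y u = w := ((j ≫ q).range_fiberι y).ge rfl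
      have hu' := (mem_ass_fiber_structure_iff (j ≫ q) y u).2 (by rw [hu]; exact h)
      refine ⟨eT.hom u, (ass_structure_iso eT u).1 hu', ?_⟩
      rw [← Scheme.Hom.comp_apply, hcomp, Scheme.Hom.comp_apply, hu]
    · rintro ⟨t, ht, htz⟩
      obtain ⟨u, rfl⟩ : ∃ u, eT.hom u = t := ⟨eT.inv t, congr($(eT.inv_hom_id).base t)⟩
      rw [← Scheme.Hom.comp_apply, hcomp, Scheme.Hom.comp_apply] at htz
      have := (mem_ass_fiber_structure_iff (j ≫ q) y u).1 ((ass_structure_iso eT u).2 ht)
      rwa [j.isEmbedding.injective htz] at this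
  constructor
  · rintro ⟨hx, hfib⟩
    obtain ⟨w, hw⟩ : ∃ w : p.fiber (p z), p.fiberι (p z) w = z := (p.range_fiberι (p z)).ge rfl
    obtain ⟨v, hv, hiff⟩ := hmain (p z) w
    obtain ⟨hv1, hv2⟩ := hiff.1 (by rw [hw]; exact hfib)
    refine ⟨p z, hx, v, hv1, ?_⟩
    rw [hw] at hv hv2
    rw [hv]
    exact hv2
  · rintro ⟨x, hx, v, hv, t, ht, rfl⟩
    have hpz : p (incl f g x (g.fiberι (f x) v) t) = x := by
      rw [← Scheme.Hom.comp_apply, show incl f g x (g.fiberι (f x) v) ≫ p = pullback.fst _ _ ≫ X.fromSpecResidueField x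
        from pullback.lift_fst _ _ _, Scheme.Hom.comp_apply, Scheme.fromSpecResidueField_apply]
    have hqz : q (incl f g x (g.fiberι (f x) v) t) = g.fiberι (f x) v := by
      rw [← Scheme.Hom.comp_apply, show incl f g x (g.fiberι (f x) v) ≫ q = pullback.snd _ _ ≫ Y.fromSpecResidueField _
        from pullback.lift_snd _ _ _, Scheme.Hom.comp_apply, Scheme.fromSpecResidueField_apply]
    refine ⟨hpz.symm ▸ hx, ?_⟩
    obtain ⟨w, hw⟩ : ∃ w : p.fiber x, p.fiberι x w = incl f g x (g.fiberι (f x) v) t := (p.range_fiberι x).ge hpz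
    obtain ⟨v', hv', hiff⟩ := hmain x w
    rw [hw, hqz] at hv' hiff
    obtain rfl := (g.fiberι (f x)).isEmbedding.injective hv'
    exact hiff.2 ⟨hv, t, ht, rfl⟩

theorem minimal_of_loc {R L : Type u} [CommRing R] [CommRing L] [Algebra R L] [IsLocalRing L] (p : Ideal R)
    [p.IsPrime] [IsLocalization.AtPrime L p] (h : IsAssociatedPrime (maximalIdeal L) L) :
    ∃ r : R, p ∈ ((⊥ : Submodule R R).colon {r}).minimalPrimes := by
  obtain ⟨-, l, hl⟩ := h
  obtain ⟨⟨r, s⟩, rfl⟩ : ∃ x : R × p.primeCompl, IsLocalization.mk' L x.1 x.2 = l :=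
    let ⟨a, b, h⟩ := IsLocalization.exists_mk'_eq p.primeCompl l; ⟨⟨a, b⟩, h⟩
  have hrad : ∀ d ∈ p, ∃ c ∉ p, ∃ n : ℕ, c * d ^ n * r = 0 := fun d hd => by
    have h1 : algebraMap R L d ∈ maximalIdeal L := (IsLocalization.AtPrime.to_map_mem_maximal_iff L p d _).2 hd
    rw [hl] at h1
    obtain ⟨n, hn⟩ := h1
    rw [Submodule.mem_colon_singleton, Submodule.mem_bot, smul_eq_mul, ← map_pow, IsLocalization.mul_mk'_eq_mk'_of_mul,
      IsLocalization.mk'_eq_zero_iff] at hn
    obtain ⟨c, hc⟩ := hn
    exact ⟨c, c.2, n, by rw [mul_assoc]; exact hc⟩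
  have hle : (⊥ : Submodule R R).colon {r} ≤ p := fun c hc => by
    by_contra hcp
    rw [Submodule.mem_colon_singleton, Submodule.mem_bot, smul_eq_mul] at hc
    have hz : IsLocalization.mk' L r s = 0 := (IsLocalization.mk'_eq_zero_iff _ _).2 ⟨⟨c, hcp⟩, hc⟩
    refine (maximalIdeal.isMaximal L).ne_top ((Ideal.eq_top_iff_one _).2 ?_)
    rw [hl]
    exact Ideal.le_radical (by rw [Submodule.mem_colon_singleton, Submodule.mem_bot, hz, smul_zero])
  refine ⟨r, ⟨⟨inferInstance, hle⟩, fun Q ⟨hQ, hQr⟩ hQp d hd => ?_⟩⟩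
  obtain ⟨c, hc, n, h0⟩ := hrad d hd
  have hm : c * d ^ n ∈ Q := hQr (by rw [Submodule.mem_colon_singleton, Submodule.mem_bot, smul_eq_mul]; exact h0)
  exact hQ.mem_of_pow_mem n ((hQ.mem_or_mem hm).resolve_left fun h => hc (hQp h))

/-- the scheme `Spec κ(x) ×_S Spec κ(y)` has no embedded points -/
theorem noEmbedded_residue (x : X) (y : Y) :
    AssSch.NoEmbedded (Coh.structureModule
      (pullback (X.fromSpecResidueField x ≫ f) (Y.fromSpecResidueField y ≫ g))) := by
  by_cases hxy : f x = g y
  swap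
  · intro t _ t' _ _
    exfalso
    apply hxy
    have h := congr($(pullback.condition (f := X.fromSpecResidueField x ≫ f) (g := Y.fromSpecResidueField y ≫ g)).base t)
    simp only [Scheme.Hom.comp_base, TopCat.comp_app] at h
    rw [Scheme.fromSpecResidueField_apply, Scheme.fromSpecResidueField_apply] at h
    exact h
  obtain ⟨φ, hφ⟩ : ∃ φ : S.residueField (f x) ⟶ Y.residueField y,
      Spec.map φ ≫ S.fromSpecResidueField (f x) = Y.fromSpecResidueField y ≫ g :=
    ⟨(S.residueFieldCongr hxy).hom ≫ g.residueFieldMap y, by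
      rw [Spec.map_comp, Category.assoc, Scheme.residueFieldCongr_fromSpecResidueField,
        Scheme.Hom.SpecMap_residueFieldMap_fromSpecResidueField]⟩
  let k := S.residueField (f x)
  letI : Algebra k (X.residueField x) := (f.residueFieldMap x).hom.toAlgebra
  letI : Algebra k (Y.residueField y) := φ.hom.toAlgebra
  let a' := Spec.map (CommRingCat.ofHom (algebraMap k (X.residueField x)))
  let b' := Spec.map (CommRingCat.ofHom (algebraMap k (Y.residueField y)))
  have h1 : a' ≫ S.fromSpecResidueField (f x) = X.fromSpecResidueField x ≫ f :=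
    Scheme.Hom.SpecMap_residueFieldMap_fromSpecResidueField f x
  have h2 : b' ≫ S.fromSpecResidueField (f x) = Y.fromSpecResidueField y ≫ g := hφ
  let R := (X.residueField x : Type u) ⊗[(k : Type u)] (Y.residueField y : Type u)
  have key : AssSch.NoEmbedded (Coh.structureModule (Spec (CommRingCat.of R))) := by
    intro t ht t' ht' hsp
    have hmin : ∀ w : Spec (CommRingCat.of R), w ∈ AssSch.Ass (Coh.structureModule (Spec (CommRingCat.of R))) →
        w.asIdeal ∈ minimalPrimes R := fun w hw => by
      haveI := w.2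
      letI : Algebra R ((Spec (CommRingCat.of R)).presheaf.stalk w) := StructureSheaf.stalkAlgebra R w
      haveI : IsLocalization.AtPrime ((Spec (CommRingCat.of R)).presheaf.stalk w) w.asIdeal :=
        StructureSheaf.IsLocalization.to_stalk R w
      obtain ⟨r, hr⟩ := minimal_of_loc (R := R) (L := (Spec (CommRingCat.of R)).presheaf.stalk w) w.asIdeal
        ((ass_structure_iff w).1 hw)
      exact minimalPrimes_of_weakAss _ inferInstance r hr
    have hle : t'.asIdeal ≤ t.asIdeal := (PrimeSpectrum.le_iff_specializes t' t).2 hsp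
    exact PrimeSpectrum.ext (le_antisymm ((hmin t ht).2 ⟨t'.2, bot_le⟩ hle) hle)
  let e0 : pullback a' b' ≅ Spec (CommRingCat.of R) := pullbackSpecIso _ _ _
  let e1 : pullback (X.fromSpecResidueField x ≫ f) (Y.fromSpecResidueField y ≫ g) ≅ pullback a' b' :=
    pullback.congrHom h1.symm h2.symm ≪≫
      (IsPullback.of_isLimit (pullbackIsPullbackOfCompMono a' b' (S.fromSpecResidueField (f x)))).isoPullback.symm
  let e := e1 ≪≫ e0
  intro t ht t' ht' hsp
  exact (Scheme.homeoOfIso e).injective
    (key _ ((ass_structure_iso e t).1 ht) _ ((ass_structure_iso e t').1 ht') (hsp.map e.hom.continuous))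

instance (x : X) (y : Y) : IsPreimmersion (incl f g x y) :=
  MorphismProperty.pullbackMap (P := @IsPreimmersion) inferInstance inferInstance rfl rfl

theorem eq_of_specializes {x : X} {y : Y} {t t' : ↥(pullback (X.fromSpecResidueField x ≫ f) (Y.fromSpecResidueField y ≫ g))}
    (ht : t ∈ AssSch.Ass (Coh.structureModule _)) (ht' : t' ∈ AssSch.Ass (Coh.structureModule _))
    (h : incl f g x y t' ⤳ incl f g x y t) : incl f g x y t = incl f g x y t' :=
  congrArg _ (noEmbedded_residue f g x y t ht t' ht'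
    ((incl f g x y).isEmbedding.isInducing.specializes_iff.1 h))

end AssTensLib
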